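import Mathlib.CategoryTheory.EffectiveEpi.Comp
import Mathlib.CategoryTheory.MorphismProperty.Limits
import Mathlib.CategoryTheory.Limits.Shapes.Pullback.HasPullback
import Mathlib.CategoryTheory.Comma.Over.Pullback

set_option autoImplicit false
open CategoryTheory CategoryTheory.Limits
universe v₁ u₁

namespace Groth.Agent.H26

variable {C : Type u₁} [Category.{v₁} C]

/-- The property of being a universal effective epimorphism. -/
abbrev UEE (C : Type u₁) [Category.{v₁} C] : MorphismProperty C :=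
  MorphismProperty.universally (fun (A B : C) (p : A ⟶ B) => EffectiveEpi p)

lemma UEE.effectiveEpi {X Y : C} {f : X ⟶ Y} (hf : UEE C f) : EffectiveEpi f :=
  MorphismProperty.universally_le _ _ hf

lemma UEE.epi {X Y : C} {f : X ⟶ Y} (hf : UEE C f) : Epi f :=
  have := hf.effectiveEpi
  inferInstance

lemma UEE.of_isPullback {X Y X' Y' : C} {f : X ⟶ Y} (hf : UEE C f)
    {f' : X' ⟶ Y'} {i₁ : X' ⟶ X} {i₂ : Y' ⟶ Y} (h : IsPullback f' i₁ i₂ f) : UEE C f' :=
  MorphismProperty.of_isPullback (P := UEE C) h.flip hf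

lemma UEE.fst [HasPullbacks C] {X Y Z : C} {f : X ⟶ Y} (hf : UEE C f) (g : Z ⟶ Y) :
    UEE C (pullback.fst g f) :=
  hf.of_isPullback (IsPullback.of_hasPullback g f)

lemma UEE.snd [HasPullbacks C] {X Y Z : C} {f : X ⟶ Y} (hf : UEE C f) (g : Z ⟶ Y) :
    UEE C (pullback.snd f g) :=
  hf.of_isPullback (IsPullback.of_hasPullback f g).flip

lemma UEE.univ_epi {X Y : C} {f : X ⟶ Y} (hf : UEE C f) :
    MorphismProperty.universally (MorphismProperty.epimorphisms C) f := by
  intro X' Y' i₁ i₂ f' h
  have := (hf.of_isPullback h).epi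
  exact (MorphismProperty.epimorphisms.iff _).mpr this

/-- If `u` and `v` are effective epis and `v` is a universal epi, then `v ≫ u` is an
effective epi. -/
theorem effectiveEpi_comp_of_universally_epi [HasPullbacks C]
    {U T S : C} (v : U ⟶ T) (u : T ⟶ S) [EffectiveEpi u] [EffectiveEpi v]
    (hv : MorphismProperty.universally (MorphismProperty.epimorphisms C) v) :
    EffectiveEpi (v ≫ u) := by
  have key : ∀ {W : C} (e : U ⟶ W),
      (∀ {Z : C} (g₁ g₂ : Z ⟶ U), g₁ ≫ v ≫ u = g₂ ≫ v ≫ u → g₁ ≫ e = g₂ ≫ e) →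
      ∃ e' : T ⟶ W, v ≫ e' = e ∧
        (∀ {Z : C} (h₁ h₂ : Z ⟶ T), h₁ ≫ u = h₂ ≫ u → h₁ ≫ e' = h₂ ≫ e') := by
    intro W e he
    have he1 : ∀ {Z : C} (g₁ g₂ : Z ⟶ U), g₁ ≫ v = g₂ ≫ v → g₁ ≫ e = g₂ ≫ e := by
      intro Z g₁ g₂ h
      apply he
      rw [← Category.assoc, h, Category.assoc]
    obtain ⟨e', hfac⟩ : ∃ e' : T ⟶ W, v ≫ e' = e := ⟨_, EffectiveEpi.fac v e he1⟩
    refine ⟨e', hfac, ?_⟩
    intro Z h₁ h₂ h
    -- first pullback
    let p : pullback h₁ v ⟶ Z := pullback.fst h₁ v
    let q1 : pullback h₁ v ⟶ U := pullback.snd h₁ v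
    have hp : Epi p := (MorphismProperty.epimorphisms.iff _).mp
      (hv _ _ _ (IsPullback.of_hasPullback h₁ v))
    let p' : pullback (p ≫ h₂) v ⟶ pullback h₁ v := pullback.fst (p ≫ h₂) v
    let q2 : pullback (p ≫ h₂) v ⟶ U := pullback.snd (p ≫ h₂) v
    have hp' : Epi p' := (MorphismProperty.epimorphisms.iff _).mp
      (hv _ _ _ (IsPullback.of_hasPullback (p ≫ h₂) v))
    have c1 : q1 ≫ v = p ≫ h₁ := (pullback.condition (f := h₁) (g := v)).symm
    have c2 : q2 ≫ v = p' ≫ p ≫ h₂ := by
      have := (pullback.condition (f := p ≫ h₂) (g := v)).symm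
      simpa using this
    have hh : (p' ≫ q1) ≫ v ≫ u = q2 ≫ v ≫ u := by
      rw [Category.assoc, ← Category.assoc q1, c1, ← Category.assoc q2, c2]
      simp only [Category.assoc, h]
    have hh2 := he _ _ hh
    rw [← hfac] at hh2
    have e1 : (p' ≫ q1) ≫ v ≫ e' = p' ≫ p ≫ h₁ ≫ e' := by
      rw [Category.assoc, ← Category.assoc q1, c1]
      simp
    have e2 : q2 ≫ v ≫ e' = p' ≫ p ≫ h₂ ≫ e' := by
      rw [← Category.assoc q2, c2]
      simp
    rw [e1, e2] at hh2
    have := (cancel_epi p').mp hh2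
    exact (cancel_epi p).mp this
  have hvepi : Epi v := inferInstance
  refine ⟨⟨{
    desc := fun {W} e he => EffectiveEpi.desc u (key e (by simpa using @he)).choose
      (key e (by simpa using @he)).choose_spec.2
    fac := fun {W} e he => by
      rw [Category.assoc, EffectiveEpi.fac]
      exact (key e (by simpa using @he)).choose_spec.1
    uniq := fun {W} e he m hm => by
      apply EffectiveEpi.uniq
      rw [← cancel_epi v, (key e (by simpa using @he)).choose_spec.1, ← hm, Category.assoc]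
  }⟩⟩


/-- Universal effective epimorphisms are stable under composition. -/
theorem UEE.comp [HasPullbacks C] {U T S : C} {v : U ⟶ T} {u : T ⟶ S}
    (hv : UEE C v) (hu : UEE C u) : UEE C (v ≫ u) := by
  intro X' Y' i₁ i₂ f' H
  -- T' = pullback i₂ u
  have hw : (f' ≫ i₂) = (i₁ ≫ v) ≫ u := by rw [H.w, Category.assoc]
  let v' : X' ⟶ pullback i₂ u := pullback.lift f' (i₁ ≫ v) hw
  have h1 : v' ≫ pullback.fst i₂ u = f' := pullback.lift_fst _ _ _
  have h2 : v' ≫ pullback.snd i₂ u = i₁ ≫ v := pullback.lift_snd _ _ _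
  have hu' : UEE C (pullback.fst i₂ u) := hu.fst i₂
  have Hbig : IsPullback (v' ≫ pullback.fst i₂ u) i₁ i₂ (v ≫ u) := by rw [h1]; exact H
  have Hv' : IsPullback v' i₁ (pullback.snd i₂ u) v :=
    IsPullback.of_right Hbig h2 (IsPullback.of_hasPullback i₂ u)
  have hv' : UEE C v' := hv.of_isPullback Hv'
  have := hv'.effectiveEpi
  have := hu'.effectiveEpi
  have := effectiveEpi_comp_of_universally_epi v' (pullback.fst i₂ u) hv'.univ_epi
  rw [h1] at this
  exact this

/-- If `v ≫ u` is a universal effective epimorphism then so is `u`. -/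
theorem UEE.of_comp [HasPullbacks C] {U T S : C} (v : U ⟶ T) {u : T ⟶ S}
    (h : UEE C (v ≫ u)) : UEE C u := by
  -- first: the statement `EffectiveEpi u` under the hypothesis, for arbitrary data
  have main : ∀ {U T S : C} (v : U ⟶ T) (u : T ⟶ S), UEE C (v ≫ u) → EffectiveEpi u := by
    intro U T S v u h
    have hf := h.effectiveEpi
    -- p : pullback u (v ≫ u) ⟶ T is an (effective) epi
    have hp : Epi (pullback.fst u (v ≫ u)) := (h.fst u).epi
    have key : ∀ {W : C} (e : T ⟶ W),
        (∀ {Z : C} (g₁ g₂ : Z ⟶ T), g₁ ≫ u = g₂ ≫ u → g₁ ≫ e = g₂ ≫ e) →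
        ∃ d : S ⟶ W, u ≫ d = e := by
      intro W e he
      have he' : ∀ {Z : C} (g₁ g₂ : Z ⟶ U), g₁ ≫ v ≫ u = g₂ ≫ v ≫ u →
          g₁ ≫ v ≫ e = g₂ ≫ v ≫ e := by
        intro Z g₁ g₂ hg
        have := he (g₁ ≫ v) (g₂ ≫ v) (by simpa using hg)
        simpa using this
      refine ⟨EffectiveEpi.desc (v ≫ u) (v ≫ e) he', ?_⟩
      have hfac := EffectiveEpi.fac (v ≫ u) (v ≫ e) he'
      rw [← cancel_epi (pullback.fst u (v ≫ u))]
      have c : pullback.fst u (v ≫ u) ≫ u = pullback.snd u (v ≫ u) ≫ v ≫ u := pullback.condition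
      have e1 : pullback.fst u (v ≫ u) ≫ e = (pullback.snd u (v ≫ u) ≫ v) ≫ e :=
        he _ _ (by simpa using c)
      rw [e1, ← Category.assoc, c]
      simp only [Category.assoc] at hfac ⊢
      rw [hfac]
    have hu : Epi u := epi_of_epi_fac (f := v) (g := u) (h := v ≫ u) rfl
    exact ⟨⟨{
      desc := fun {W} e he => (key e he).choose
      fac := fun {W} e he => (key e he).choose_spec
      uniq := fun {W} e he m hm => by
        rw [← cancel_epi u, hm, (key e he).choose_spec]
    }⟩⟩
  intro X' Y' i₁ i₂ f' H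
  -- pullback of v ≫ u along i₂ factors through f'
  let w : pullback i₂ (v ≫ u) ⟶ X' :=
    H.lift (pullback.fst i₂ (v ≫ u)) (pullback.snd i₂ (v ≫ u) ≫ v)
      (by simpa using pullback.condition)
  have hw : w ≫ f' = pullback.fst i₂ (v ≫ u) := H.lift_fst _ _ _
  have hcomp : UEE C (w ≫ f') := by
    rw [hw]
    exact h.fst i₂
  exact main w f' hcomp


section Descent

variable [HasPullbacks C] {S' S : C} (f : S' ⟶ S)

set_option backward.isDefEq.respectTransparency false in
/-- Monomorphisms descend along universal (effective) epimorphisms: C-level statement. -/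
theorem mono_of_mono_pullback_map (hf : UEE C f) {X Y : Over S} (g : X ⟶ Y)
    [Mono ((Over.pullback f).map g)] : Mono g := by
  have hg' : Mono ((Over.pullback f).map g).left := inferInstance
  suffices Mono g.left from Over.mono_of_mono_left g
  constructor
  intro Z a b hab
  have hz : a ≫ X.hom = b ≫ X.hom := by
    rw [← Over.w g, ← Category.assoc, hab, Category.assoc]
  let z : Z ⟶ S := a ≫ X.hom
  have hpZ : Epi (pullback.fst z f) := (hf.fst z).epi
  let a' : pullback z f ⟶ pullback X.hom f :=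
    pullback.lift (pullback.fst z f ≫ a) (pullback.snd z f) (by simp [z, pullback.condition])
  let b' : pullback z f ⟶ pullback X.hom f :=
    pullback.lift (pullback.fst z f ≫ b) (pullback.snd z f)
      (by rw [Category.assoc, ← hz]; simp [z, pullback.condition])
  have hab' : a' ≫ ((Over.pullback f).map g).left = b' ≫ ((Over.pullback f).map g).left := by
    apply pullback.hom_ext
    · simp [a', b', hab]
    · simp [a', b']
  have h1 : a' = b' := (cancel_mono _).mp hab'
  have h2 := congrArg (· ≫ pullback.fst X.hom f) h1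
  simp only [a', b', pullback.lift_fst] at h2
  exact (cancel_epi _).mp h2

set_option backward.isDefEq.respectTransparency false in
/-- Isomorphisms descend along universal effective epimorphisms. -/
theorem isIso_of_isIso_pullback_map (hf : UEE C f) {X Y : Over S} (g : X ⟶ Y)
    [IsIso ((Over.pullback f).map g)] : IsIso g := by
  have hmono : Mono g := mono_of_mono_pullback_map f hf g
  have hgl : Mono g.left := inferInstance
  have hg' : IsIso ((Over.pullback f).map g).left :=
    inferInstanceAs (IsIso ((Over.forget _).map ((Over.pullback f).map g)))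
  set g' := ((Over.pullback f).map g).left with hg'def
  let pX := pullback.fst X.hom f
  let pY := pullback.fst Y.hom f
  have hpY : UEE C pY := hf.fst Y.hom
  have := hpY.effectiveEpi
  have hsq : g' ≫ pY = pX ≫ g.left := by simp [g', pX, pY]
  have hsq' : inv g' ≫ pX ≫ g.left = pY := by rw [← hsq]; simp
  have hcoeq : ∀ {Z : C} (g₁ g₂ : Z ⟶ pullback Y.hom f), g₁ ≫ pY = g₂ ≫ pY →
      g₁ ≫ inv g' ≫ pX = g₂ ≫ inv g' ≫ pX := by
    intro Z g₁ g₂ h
    rw [← cancel_mono g.left]
    simp only [Category.assoc, hsq', h]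
  let h : Y.left ⟶ X.left := EffectiveEpi.desc pY (inv g' ≫ pX) hcoeq
  have hfac : pY ≫ h = inv g' ≫ pX := EffectiveEpi.fac pY _ hcoeq
  have h1 : h ≫ g.left = 𝟙 _ := by
    rw [← cancel_epi pY, ← Category.assoc, hfac, Category.assoc, hsq', Category.comp_id]
  have h2 : g.left ≫ h = 𝟙 _ := by
    rw [← cancel_mono g.left, Category.assoc, h1]; simp
  have : IsIso ((Over.forget S).map g) := ⟨h, h2, h1⟩
  exact isIso_of_reflects_iso g (Over.forget S)

end Descent

/-- If `f` is a universal (effective) epi and the kernel relation of `f ≫ g` is contained in the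
kernel relation of `f`, then `g` is a monomorphism. -/
theorem mono_of_UEE_of_kernel_le [HasPullbacks C] {S' S T : C} (f : S' ⟶ S) (hf : UEE C f)
    (g : S ⟶ T)
    (H : ∀ {Z : C} (a b : Z ⟶ S'), a ≫ f ≫ g = b ≫ f ≫ g → a ≫ f = b ≫ f) : Mono g := by
  constructor
  intro Z a b hab
  let p : pullback a f ⟶ Z := pullback.fst a f
  let a' : pullback a f ⟶ S' := pullback.snd a f
  have hp : Epi p := (UEE.fst hf a).epi
  let p' : pullback (p ≫ b) f ⟶ pullback a f := pullback.fst (p ≫ b) f
  let b' : pullback (p ≫ b) f ⟶ S' := pullback.snd (p ≫ b) f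
  have hp' : Epi p' := (UEE.fst hf (p ≫ b)).epi
  have c1 : a' ≫ f = p ≫ a := (pullback.condition (f := a) (g := f)).symm
  have c2 : b' ≫ f = p' ≫ p ≫ b := by
    have := (pullback.condition (f := p ≫ b) (g := f)).symm
    simpa using this
  have hw : (p' ≫ a') ≫ f ≫ g = b' ≫ f ≫ g := by
    rw [Category.assoc, ← Category.assoc a', c1, ← Category.assoc b', c2]
    simp only [Category.assoc, hab]
  have h3 : (p' ≫ a') ≫ f = b' ≫ f := H _ _ hw
  rw [Category.assoc, c1, c2] at h3
  have := (cancel_epi p').mp h3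
  exact (cancel_epi p).mp this

end Groth.Agent.H26
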